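import Groth.Agent.CAlgH3.GeomBridge
import Groth.Agent.AlgSpLib.BiratOpen
import Groth.Agent.SGA3cLib.MonoClosed
import Groth.Agent.DimLib.Maximal
import Groth.Agent.DimLib.BaseChange
import Mathlib.RingTheory.AlgebraicIndependent.TranscendenceBasis
import Mathlib.RingTheory.AlgebraicIndependent.Adjoin
import Mathlib.RingTheory.TensorProduct.MvPolynomial
import Mathlib.AlgebraicGeometry.Morphisms.Integral

/-! Generic points of the fibres of a field extension base change `G ⊗ K → G`. -/

set_option autoImplicit false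
set_option linter.style.haveILetI false
set_option backward.isDefEq.respectTransparency.types false

universe u

open CategoryTheory Limits AlgebraicGeometry TensorProduct

noncomputable section

namespace Groth.Agent.FieldExtFibre26

/-- κ ⊗ k(X_i) is a domain. -/
theorem isDomain_tensor_ratFunc (k κ : Type u) [Field k] [Field κ] [Algebra k κ] (ι : Type u) :
    IsDomain (κ ⊗[k] FractionRing (MvPolynomial ι k)) := by
  classical
  let P := MvPolynomial ι k
  let F := FractionRing P
  let m : κ ⊗[k] P →ₐ[k] κ ⊗[k] F := Algebra.TensorProduct.map (AlgHom.id k κ) (IsScalarTower.toAlgHom k P F)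
  let e := MvPolynomial.algebraTensorAlgEquiv (σ := ι) k κ
  have hfrac : ∀ x : κ ⊗[k] F, ∃ (s : P) (y : κ ⊗[k] P), s ≠ 0 ∧ ((1 : κ) ⊗ₜ[k] algebraMap P F s) * x = m y := by
    intro x
    induction x using TensorProduct.induction_on with
    | zero => exact ⟨1, 0, one_ne_zero, by simp⟩
    | tmul a t =>
      obtain ⟨p, s, hs, hps⟩ := IsFractionRing.div_surjective (A := P) t
      refine ⟨s, a ⊗ₜ[k] p, nonZeroDivisors.ne_zero hs, ?_⟩
      simp only [m, Algebra.TensorProduct.map_tmul, Algebra.TensorProduct.tmul_mul_tmul, _root_.one_mul, AlgHom.id_apply]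
      congr 1
      rw [← hps, IsScalarTower.coe_toAlgHom']
      exact mul_div_cancel₀ _ (IsFractionRing.to_map_ne_zero_of_mem_nonZeroDivisors hs)
    | add a b ha hb =>
      obtain ⟨s, y, hs, hy⟩ := ha
      obtain ⟨s', y', hs', hy'⟩ := hb
      refine ⟨s * s', ((1 : κ) ⊗ₜ[k] s') * y + ((1 : κ) ⊗ₜ[k] s) * y', mul_ne_zero hs hs', ?_⟩
      have h1 : ∀ u : P, m ((1 : κ) ⊗ₜ[k] u) = (1 : κ) ⊗ₜ[k] algebraMap P F u := fun u => by simp [m]
      have h2 : (1 : κ) ⊗ₜ[k] algebraMap P F (s * s') =
          ((1 : κ) ⊗ₜ[k] algebraMap P F s) * ((1 : κ) ⊗ₜ[k] algebraMap P F s') := by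
        rw [Algebra.TensorProduct.tmul_mul_tmul, _root_.one_mul, map_mul]
      rw [h2, map_add, map_mul m _ y, map_mul m _ y', h1, h1, ← hy, ← hy']
      ring
  have hm : Function.Injective m := by
    have : Function.Injective ((IsScalarTower.toAlgHom k P F).toLinearMap.lTensor κ) :=
      Module.Flat.lTensor_preserves_injective_linearMap _ (IsFractionRing.injective P F)
    exact this
  haveI : IsDomain (κ ⊗[k] P) := e.toMulEquiv.isDomain (MvPolynomial ι κ)
  haveI : Nontrivial (κ ⊗[k] F) := by
    obtain ⟨a, b, hab⟩ := exists_pair_ne (κ ⊗[k] P)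
    exact ⟨⟨m a, m b, fun h => hab (hm h)⟩⟩
  haveI : NoZeroDivisors (κ ⊗[k] F) := by
    refine ⟨fun {a b} hab => ?_⟩
    obtain ⟨s, y, hs, hy⟩ := hfrac a
    obtain ⟨s', y', hs', hy'⟩ := hfrac b
    have h0 : m (y * y') = 0 := by
      rw [map_mul, ← hy, ← hy', mul_mul_mul_comm, hab, mul_zero]
    have hu : ∀ u : P, u ≠ 0 → IsUnit ((1 : κ) ⊗ₜ[k] algebraMap P F u) := fun u hu' =>
      (((map_ne_zero_iff _ (IsFractionRing.injective P F)).2 hu').isUnit).map
        (Algebra.TensorProduct.includeRight : F →ₐ[k] κ ⊗[k] F)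
    rcases mul_eq_zero.1 (hm (h0.trans (map_zero m).symm)) with h | h
    · left
      rw [h, map_zero] at hy
      exact (hu s hs).mul_right_eq_zero.1 hy
    · right
      rw [h, map_zero] at hy'
      exact (hu s' hs').mul_right_eq_zero.1 hy'
  exact NoZeroDivisors.to_isDomain _

variable {k K : Type u} [Field k] [Field K] [Algebra k K]

theorem exists_intermediate (k K : Type u) [Field k] [Field K] [Algebra k K] :
    ∃ F : IntermediateField k K, GeometricallyIrreducible (CAlgH3.GeomBridge.str k F) ∧ Algebra.IsAlgebraic F K := by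
  obtain ⟨s, hs⟩ := exists_isTranscendenceBasis k K
  refine ⟨IntermediateField.adjoin k (Set.range ((↑) : s → K)), ?_, hs.isAlgebraic_field⟩
  rw [CAlgH3.GeomBridge.irreducible_iff]
  intro L _ _
  haveI := isDomain_tensor_ratFunc k L s
  haveI : IsDomain (L ⊗[k] IntermediateField.adjoin k (Set.range ((↑) : s → K))) :=
    (Algebra.TensorProduct.congr (AlgEquiv.refl : L ≃ₐ[k] L) hs.1.aevalEquivField).toMulEquiv.symm.isDomain _
  infer_instance

/-- The set of points over which an open contains all generic points of the fibre is open, and dense if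
the open is. -/
theorem main (k : Type u) [Field k] (K : Type u) [Field K] [Algebra k K]
    (G : Scheme.{u}) (f : G ⟶ Spec (CommRingCat.of k)) [LocallyOfFiniteType f] [QuasiCompact f]
    (W : (pullback f (Spec.map (CommRingCat.ofHom (algebraMap k K)))).Opens)
    (hW : Dense (W : Set ↥(pullback f (Spec.map (CommRingCat.ofHom (algebraMap k K)))))) :
    letI π := (pullback.fst f (Spec.map (CommRingCat.ofHom (algebraMap k K)))).base
    letI U : Set G := {g : G | ∀ z : ↥(π ⁻¹' {g}), closure {z} ∈ irreducibleComponents ↥(π ⁻¹' {g}) → z.1 ∈ W}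
    IsOpen U ∧ Dense U := by
  obtain ⟨F, hFi, hFalg⟩ := exists_intermediate k K
  let sF := CAlgH3.GeomBridge.str k F
  let sK := Spec.map (CommRingCat.ofHom (algebraMap k K))
  let c := Spec.map (CommRingCat.ofHom (algebraMap F K))
  have hc : c ≫ sF = sK := by
    rw [← Spec.map_comp, ← CommRingCat.ofHom_comp, ← IsScalarTower.algebraMap_eq]
  let GK := pullback f sK
  let GF := pullback f sF
  let q : GK ⟶ GF := pullback.lift (pullback.fst f sK) (pullback.snd f sK ≫ c) (by
    rw [Category.assoc, hc, pullback.condition])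
  let r : GF ⟶ G := pullback.fst f sF
  have hqr : q ≫ r = pullback.fst f sK := pullback.lift_fst _ _ _
  have hsq : IsPullback (pullback.snd f sK) q c (pullback.snd f sF) := by
    refine (IsPullback.of_bot ?_ ?_ (IsPullback.of_hasPullback f sF).flip)
    · rw [hqr, hc]; exact (IsPullback.of_hasPullback f sK).flip
    · exact (pullback.lift_snd _ _ _).symm
  haveI : IsIntegralHom c := by
    rw [IsIntegralHom.SpecMap_iff]
    exact algebraMap_isIntegral_iff.2 hFalg.isIntegral
  haveI : Flat c := inferInstance
  haveI : IsIntegralHom q := MorphismProperty.of_isPullback (P := @IsIntegralHom) hsq inferInstance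
  haveI : Flat q := MorphismProperty.of_isPullback (P := @Flat) hsq inferInstance
  haveI : GeometricallyIrreducible r :=
    MorphismProperty.pullback_fst (P := @GeometricallyIrreducible) _ _ hFi
  haveI : UniversallyOpen r := MorphismProperty.pullback_fst (P := @UniversallyOpen) _ _ inferInstance
  -- the generic point of a fibre of `r`
  have hη : ∀ g : G, ∃ η : GF, r.base η = g ∧ ∀ y, r.base y = g → η ⤳ y := fun g => by
    refine ⟨r.fiberι g (genericPoint (r.fiber g)), ?_, fun y hy => ?_⟩
    · have : r.fiberι g (genericPoint (r.fiber g)) ∈ Set.range (r.fiberι g) := ⟨_, rfl⟩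
      rwa [r.range_fiberι] at this
    · obtain ⟨y', rfl⟩ : y ∈ Set.range (r.fiberι g) := by rw [r.range_fiberι]; exact hy
      exact ((genericPoint_spec (r.fiber g)).specializes (Set.mem_univ y')).map (r.fiberι g).continuous
  choose η hη1 hη2 using hη
  -- maximal points of a fibre of the composite
  have hA : ∀ (g : G) (z : GK), (pullback.fst f sK).base z = g →
      (∀ w, w ⤳ z → (pullback.fst f sK).base w = g → z = w) → q.base z = η g := by
    intro g z hz hmax
    have hqz : r.base (q.base z) = g := by rw [← hz, ← hqr]; rfl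
    obtain ⟨w, hw, hqw⟩ := Flat.generalizingMap q (hη2 g _ hqz)
    have hw' : (pullback.fst f sK).base w = g := by
      rw [← hqr, Scheme.Hom.comp_apply, hqw, hη1]
    rw [hmax w hw hw', hqw]
  have hB : ∀ (g : G) (z : GK), q.base z = η g → ∀ w, w ⤳ z → (pullback.fst f sK).base w = g → z = w := by
    intro g z hz w hw hwg
    have h1 : η g ⤳ q.base w := hη2 g _ (by rw [← hwg, ← hqr]; rfl)
    have h2 : q.base w ⤳ η g := hz ▸ hw.map q.continuous
    exact (SGA3cLib.eq_of_specializes_of_isIntegralHom q hw ((h2.antisymm h1).eq.trans hz.symm)).symm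
  let C : Set GF := q.base '' (W : Set GK)ᶜ
  have hC : IsClosed C := q.isClosedMap _ W.2.isClosed_compl
  set U : Set G := {g : G | ∀ z : ↥((pullback.fst f sK).base ⁻¹' {g}),
      closure {z} ∈ irreducibleComponents ↥((pullback.fst f sK).base ⁻¹' {g}) → z.1 ∈ W} with hUdef
  have hUeq : U = r.base '' Cᶜ := by
    ext g
    constructor
    · intro hg
      refine ⟨η g, ?_, hη1 g⟩
      rintro ⟨z, hzW, hqz⟩
      have hzg : (pullback.fst f sK).base z = g := by rw [← hqr, Scheme.Hom.comp_apply, hqz, hη1]
      haveI : QuasiSober ↥((pullback.fst f sK).base ⁻¹' {g}) :=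
        ((pullback.fst f sK).fiberHomeo g).symm.isClosedEmbedding.quasiSober
      refine hzW (hg ⟨z, hzg⟩ ((DimLib.mem_components_iff _).2 fun w hw => ?_))
      have := hB g z hqz w.1 ((subtype_specializes_iff _ _).1 hw) w.2
      exact (subtype_specializes_iff _ _).2 (this ▸ specializes_rfl)
    · rintro ⟨y, hy, rfl⟩ ⟨z, hz⟩ hcomp
      have hmax : ∀ w, w ⤳ z → (pullback.fst f sK).base w = r.base y → z = w := by
        intro w hw hwg
        have h1 : (⟨w, hwg⟩ : ↥((pullback.fst f sK).base ⁻¹' {r.base y})) ⤳ ⟨z, hz⟩ :=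
          (subtype_specializes_iff _ _).2 hw
        have h2 := hcomp.2 isIrreducible_singleton.closure h1.closure_subset (subset_closure rfl)
        exact ((subtype_specializes_iff _ _).1 (specializes_iff_mem_closure.2 h2) |>.antisymm hw).eq
      by_contra hzW
      have : η (r.base y) ∈ C := ⟨z, hzW, hA _ z hz hmax⟩
      exact hy ((hη2 _ y rfl).mem_closed hC this)
  refine ⟨?_, ?_⟩
  · change IsOpen U
    rw [hUeq]
    exact r.isOpenMap _ hC.isOpen_compl
  · change Dense U
    haveI : CompactSpace ↥G := QuasiCompact.compactSpace_of_compactSpace f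
    haveI : LocallyOfFiniteType (pullback.snd f sK) := MorphismProperty.pullback_snd (P := @LocallyOfFiniteType) _ _ inferInstance
    haveI : QuasiCompact (pullback.snd f sK) := MorphismProperty.pullback_snd (P := @QuasiCompact) _ _ inferInstance
    haveI : IsLocallyNoetherian GK := LocallyOfFiniteType.isLocallyNoetherian (pullback.snd f sK)
    haveI : CompactSpace ↥GK := QuasiCompact.compactSpace_of_compactSpace (pullback.snd f sK)
    haveI : IsNoetherian GK := {}
    intro x
    obtain ⟨g, hgx, hgmax⟩ := DimLib.exists_maximal_specializes x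
    refine mem_closure_iff.2 fun O hO hxO => ⟨g, hgx.mem_open hO hxO, ?_⟩
    intro z hz
    haveI : Flat (pullback.fst f sK) := MorphismProperty.pullback_fst (P := @Flat) _ _ inferInstance
    refine AlgSpLib.Birat.mem_of_dense finite_irreducibleComponents_of_isNoetherian hW
      (DimLib.closure_mem_components fun w hw => ?_)
    have hwg : (pullback.fst f sK).base w = g := by
      have h := hw.map (pullback.fst f sK).continuous
      rw [show (pullback.fst f sK).base z.1 = g from z.2] at h
      exact (hgmax _ h).symm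
    have h1 : (⟨w, hwg⟩ : ↥((pullback.fst f sK).base ⁻¹' {g})) ⤳ z := (subtype_specializes_iff _ _).2 hw
    have h2 := hz.2 isIrreducible_singleton.closure h1.closure_subset (subset_closure rfl)
    exact ((subtype_specializes_iff _ _).1 (specializes_iff_mem_closure.2 h2) |>.antisymm hw).eq

end Groth.Agent.FieldExtFibre26
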